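import Groth.Agent.Lib.Hopf.Galois
import Groth.Agent.Lib.Comod.Coeff
import Groth.Agent.Lib.Comod.Integral
import Groth.Agent.Lib.Comod.Along
import Mathlib.RingTheory.TensorProduct.IncludeLeftSubRight
import Mathlib.LinearAlgebra.TensorProduct.Pi
import Mathlib.RingTheory.Flat.Stability

/-!
# Descent along a quotient `G → G/K`: invariant vectors of `K`-representations
-/

universe u

open TensorProduct WithConv GrothLib.Hopf

namespace GrothLib.LinRedExt

variable {k : Type u} [Field k] {B A A' : Type u} [CommRing B] [HopfAlgebra k B] [CommRing A] [HopfAlgebra k A]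
  [CommRing A'] [HopfAlgebra k A'] [Algebra B A] [IsScalarTower k B A]

/-- `(id ⊗ ψ) ∘ Δ` -/
noncomputable def rc (ψ : A →ₐc[k] A') : A →ₐ[k] A ⊗[k] A' :=
  (Algebra.TensorProduct.map (AlgHom.id k A) (ψ : A →ₐ[k] A')).comp (Bialgebra.comulAlgHom k A)

theorem rc_algebraMap (φ : B →ₐc[k] A) (hφ : ∀ b, algebraMap B A b = φ b) (ψ : A →ₐc[k] A')
    (hψφ : ∀ b, ψ (φ b) = algebraMap k A' (Coalgebra.counit b)) (b : B) :
    rc ψ (algebraMap B A b) = algebraMap B A b ⊗ₜ[k] (1 : A') := by
  rw [hφ]
  show Algebra.TensorProduct.map (AlgHom.id k A) (ψ : A →ₐ[k] A') (Coalgebra.comul (R := k) (φ b)) = _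
  rw [← CoalgHomClass.map_comp_comul_apply φ b]
  conv_rhs => rw [show φ b = φ (TensorProduct.rid k B ((Coalgebra.counit (R := k)).lTensor B
    (Coalgebra.comul (R := k) b))) by simp]
  induction Coalgebra.comul (R := k) b using TensorProduct.induction_on with
  | zero => simp
  | add x y hx hy => simp only [map_add, TensorProduct.add_tmul, hx, hy]
  | tmul x y =>
    simp only [TensorProduct.map_tmul, Algebra.TensorProduct.map_tmul, AlgHom.id_apply, LinearMap.lTensor_tmul,
      TensorProduct.rid_tmul, map_smul]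
    show φ x ⊗ₜ[k] ψ (φ y) = _
    rw [hψφ, Algebra.algebraMap_eq_smul_one, TensorProduct.tmul_smul, TensorProduct.smul_tmul']

/-- The coaction of `K` on `A`, linear over the invariant functions. -/
noncomputable def rcB (φ : B →ₐc[k] A) (hφ : ∀ b, algebraMap B A b = φ b) (ψ : A →ₐc[k] A')
    (hψφ : ∀ b, ψ (φ b) = algebraMap k A' (Coalgebra.counit b)) : A →ₐ[B] A ⊗[k] A' :=
  { rc ψ with commutes' := fun b => rc_algebraMap φ hφ ψ hψφ b }

omit [HopfAlgebra k B] [Algebra B A] [IsScalarTower k B A] in
theorem pinv_mul_rev {D : Type u} [CommRing D] [Algebra k D] (f g : WithConv (A →ₐ[k] D)) :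
    pinv (f * g) = pinv g * pinv f := by
  calc pinv (f * g) = pinv (f * g) * ((f * g) * (pinv g * pinv f)) := by
        rw [mul_assoc f, ← mul_assoc g, mul_pinv, one_mul, mul_pinv, mul_one]
    _ = _ := by rw [← mul_assoc, pinv_mul, one_mul]

theorem exists_gamma (φ : B →ₐc[k] A) (hφ : ∀ b, algebraMap B A b = φ b) (ψ : A →ₐc[k] A')
    (hψ : Function.Surjective ψ) (hker : RingHom.ker (ψ : A →ₐ[k] A') = kerIdeal k φ) :
    ∃ g : A' →ₐ[k] A ⊗[B] A,
      toConv (g.comp (ψ : A →ₐ[k] A')) = pinv (toConv (Algebra.TensorProduct.includeLeft : A →ₐ[k] A ⊗[B] A)) *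
        toConv ((Algebra.TensorProduct.includeRight (R := B) (A := A) (B := A)).restrictScalars k) := by
  let x' : A →ₐ[k] A ⊗[B] A := Algebra.TensorProduct.includeLeft
  let y' : A →ₐ[k] A ⊗[B] A := (Algebra.TensorProduct.includeRight (R := B) (A := A) (B := A)).restrictScalars k
  have hxy : x'.comp (φ : B →ₐ[k] A) = y'.comp (φ : B →ₐ[k] A) := by
    ext b
    change (φ b) ⊗ₜ[B] (1 : A) = (1 : A) ⊗ₜ[B] (φ b)
    rw [← hφ, Algebra.algebraMap_eq_smul_one, smul_tmul]
  let g0 : A →ₐ[k] A ⊗[B] A := (pinv (toConv x') * toConv y').ofConv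
  have hg : RingHom.ker (ψ : A →ₐ[k] A') ≤ RingHom.ker g0 := by
    have h1 : toConv (g0.comp (φ : B →ₐ[k] A)) = 1 := by
      refine (convMul_comp_bialgHom φ (pinv (toConv x')) (toConv y')).trans ?_
      rw [show (toConv y').ofConv.comp (φ : B →ₐ[k] A) = (toConv x').ofConv.comp (φ : B →ₐ[k] A)
        from hxy.symm]
      refine (convMul_comp_bialgHom φ _ _).symm.trans ?_
      rw [pinv_mul, convOne_comp_bialgHom, toConv_ofConv]
    rw [hker, kerIdeal, Ideal.map_le_iff_le_comap]
    intro b hb
    have h2 := DFunLike.congr_fun (congrArg WithConv.ofConv h1) b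
    rw [Ideal.mem_comap, RingHom.mem_ker]
    refine h2.trans ?_
    change algebraMap k _ (Coalgebra.counit b) = 0
    rw [show Coalgebra.counit (R := k) b = 0 from hb, map_zero]
  refine ⟨AlgHom.liftOfSurjective (ψ : A →ₐ[k] A') hψ g0 hg, ?_⟩
  exact congrArg toConv (AlgHom.liftOfSurjective_comp (ψ : A →ₐ[k] A') hψ g0 hg)

theorem mul_gamma (ψ : A →ₐc[k] A') (hψ : Function.Surjective ψ) {g : A' →ₐ[k] A ⊗[B] A}
    (hg : toConv (g.comp (ψ : A →ₐ[k] A')) = pinv (toConv (Algebra.TensorProduct.includeLeft : A →ₐ[k] A ⊗[B] A)) *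
      toConv ((Algebra.TensorProduct.includeRight (R := B) (A := A) (B := A)).restrictScalars k)) (c : A') :
    Algebra.TensorProduct.lmul' B (g c) = algebraMap k A (Coalgebra.counit c) := by
  obtain ⟨a, rfl⟩ := hψ c
  let μ : A ⊗[B] A →ₐ[k] A := (Algebra.TensorProduct.lmul' B : A ⊗[B] A →ₐ[B] A).restrictScalars k
  have h1 := congrArg (fun f => toConv (μ.comp f.ofConv)) hg
  simp only [ofConv_toConv, comp_convMul, pinv, ← AlgHom.comp_assoc] at h1
  rw [show μ.comp (Algebra.TensorProduct.includeLeft : A →ₐ[k] A ⊗[B] A) = AlgHom.id k A from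
      AlgHom.ext fun x => by simp [μ],
    show μ.comp ((Algebra.TensorProduct.includeRight (R := B) (A := A) (B := A)).restrictScalars k) = AlgHom.id k A from
      AlgHom.ext fun x => by simp [μ], comp_antipode_mul] at h1
  have h2 := DFunLike.congr_fun (congrArg WithConv.ofConv h1) a
  rw [CoalgHomClass.counit_comp_apply]
  exact h2

theorem rc_gamma (φ : B →ₐc[k] A) (hφ : ∀ b, algebraMap B A b = φ b) (ψ : A →ₐc[k] A')
    (hψ : Function.Surjective ψ) (hψφ : ∀ b, ψ (φ b) = algebraMap k A' (Coalgebra.counit b))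
    {g : A' →ₐ[k] A ⊗[B] A}
    (hg : toConv (g.comp (ψ : A →ₐ[k] A')) = pinv (toConv (Algebra.TensorProduct.includeLeft : A →ₐ[k] A ⊗[B] A)) *
      toConv ((Algebra.TensorProduct.includeRight (R := B) (A := A) (B := A)).restrictScalars k)) :
    toConv (((Algebra.TensorProduct.map (rcB φ hφ ψ hψφ) (AlgHom.id B A)).restrictScalars k).comp g) =
      pinv (toConv ((Algebra.TensorProduct.includeLeft : A ⊗[k] A' →ₐ[k] (A ⊗[k] A') ⊗[B] A).comp
        Algebra.TensorProduct.includeRight)) *
      toConv (((Algebra.TensorProduct.map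
        (Algebra.TensorProduct.includeLeft : A →ₐ[B] A ⊗[k] A')
        (AlgHom.id B A)).restrictScalars k).comp g) := by
  let P := (Algebra.TensorProduct.map (rcB φ hφ ψ hψφ) (AlgHom.id B A)).restrictScalars k
  let ι : A →ₐ[B] A ⊗[k] A' :=
    (Algebra.TensorProduct.includeLeft : A →ₐ[B] A ⊗[k] A')
  let Q := (Algebra.TensorProduct.map ι (AlgHom.id B A)).restrictScalars k
  let j : A ⊗[k] A' →ₐ[k] (A ⊗[k] A') ⊗[B] A := Algebra.TensorProduct.includeLeft
  let x' : A →ₐ[k] A ⊗[B] A := Algebra.TensorProduct.includeLeft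
  let y' : A →ₐ[k] A ⊗[B] A := (Algebra.TensorProduct.includeRight (R := B) (A := A) (B := A)).restrictScalars k
  let c2 : A →ₐ[k] (A ⊗[k] A') ⊗[B] A :=
    (j.comp Algebra.TensorProduct.includeRight).comp (ψ : A →ₐ[k] A')
  let v : A →ₐ[k] (A ⊗[k] A') ⊗[B] A :=
    (Algebra.TensorProduct.includeRight (R := B) (A := A ⊗[k] A') (B := A)).restrictScalars k
  let c1 : A →ₐ[k] (A ⊗[k] A') ⊗[B] A := j.comp Algebra.TensorProduct.includeLeft
  have hQx : Q.comp x' = c1 := AlgHom.ext fun a => by simp [Q, x', c1, ι, j]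
  have hQy : Q.comp y' = v := AlgHom.ext fun a => by simp [Q, y', v, ι, ← Algebra.TensorProduct.one_def]
  have hPy : P.comp y' = v := AlgHom.ext fun a => by simp [P, y', v]
  have hPx : toConv (P.comp x') = toConv c1 * toConv c2 := by
    apply ofConv_injective
    refine AlgHom.ext fun a => ?_
    show (rcB φ hφ ψ hψφ a) ⊗ₜ[B] (1 : A) = _
    rw [AlgHom.convMul_apply]
    show Algebra.TensorProduct.map (AlgHom.id k A) (ψ : A →ₐ[k] A') (Coalgebra.comul (R := k) a) ⊗ₜ[B] (1 : A) = _
    induction Coalgebra.comul (R := k) a using TensorProduct.induction_on with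
    | zero => simp
    | add s t hs ht => simp only [map_add, TensorProduct.add_tmul, hs, ht]
    | tmul s t => simp [c1, c2, j]
  have hP0 : toConv (P.comp (g.comp (ψ : A →ₐ[k] A'))) =
      pinv (toConv c2) * toConv (Q.comp (g.comp (ψ : A →ₐ[k] A'))) := by
    rw [show g.comp (ψ : A →ₐ[k] A') = (toConv (g.comp (ψ : A →ₐ[k] A'))).ofConv from rfl, hg, comp_convMul,
      comp_convMul]
    have hP1 : toConv (P.comp (pinv (toConv x')).ofConv) = pinv (toConv (P.comp x')) := by
      simp [pinv, AlgHom.comp_assoc]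
    have hQ1 : toConv (Q.comp (pinv (toConv x')).ofConv) = pinv (toConv (Q.comp x')) := by
      simp [pinv, AlgHom.comp_assoc]
    change toConv (P.comp (pinv (toConv x')).ofConv) * toConv (P.comp y') =
      pinv (toConv c2) * (toConv (Q.comp (pinv (toConv x')).ofConv) * toConv (Q.comp y'))
    rw [hP1, hQ1, hPy, hQy, hQx, hPx]
    refine (congrArg (· * toConv v) ?_).trans (mul_assoc (pinv (toConv c2)) (pinv (toConv c1)) (toConv v))
    exact pinv_mul_rev (toConv c1) (toConv c2)
  apply ofConv_injective
  refine AlgHom.ext fun c => ?_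
  obtain ⟨a, rfl⟩ := hψ c
  have h3 := DFunLike.congr_fun (congrArg WithConv.ofConv hP0) a
  refine h3.trans ?_
  rw [AlgHom.convMul_apply, AlgHom.convMul_apply, ← CoalgHomClass.map_comp_comul_apply ψ a]
  induction Coalgebra.comul (R := k) a using TensorProduct.induction_on with
  | zero => simp
  | add s t hs ht => simp only [map_add, hs, ht]
  | tmul s t =>
    simp only [pinv, ofConv_toConv, AlgHom.comp_apply, TensorProduct.map_tmul, Algebra.TensorProduct.map_tmul, c2,
      LinearMap.mul'_apply, Algebra.TensorProduct.lmul'_apply_tmul]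
    show (j.comp Algebra.TensorProduct.includeRight) (ψ (HopfAlgebraStruct.antipode k s)) * _ = _
    rw [← GrothLib.Hopf.bialgHom_antipode ψ s]
    rfl

theorem cfMap_comul {V : Type u} [AddCommGroup V] [Module k V] [HopfRep.Comod k A' V] {ι : Type*} [Fintype ι]
    [DecidableEq ι] (e : Module.Basis ι k V) (i j : ι) :
    Coalgebra.comul (R := k) (GrothLib.Comodule.cfMap (C := A') (e.coord i) (e j)) =
      ∑ l, GrothLib.Comodule.cfMap (C := A') (e.coord i) (e l) ⊗ₜ[k]
        GrothLib.Comodule.cfMap (C := A') (e.coord l) (e j) := by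
  refine (LinearMap.congr_fun (GrothLib.Comodule.isComodHom_cfMap (C := A') (e.coord i)) (e j)).trans ?_
  simp only [LinearMap.comp_apply]
  have h : ∀ z : V ⊗[k] A', z = ∑ l, e l ⊗ₜ[k] TensorProduct.lid k A' ((e.coord l).rTensor A' z) := by
    intro z
    induction z using TensorProduct.induction_on with
    | zero => simp
    | add x y hx hy => simp only [map_add, TensorProduct.tmul_add, Finset.sum_add_distrib, ← hx, ← hy]
    | tmul x y =>
      simp only [LinearMap.rTensor_tmul, TensorProduct.lid_tmul, TensorProduct.tmul_smul, TensorProduct.smul_tmul',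
        ← TensorProduct.sum_tmul, Module.Basis.coord_apply, e.sum_repr]
  conv_lhs => rw [h (HopfRep.Comod.coact (k := k) (A := A') (e j))]
  simp only [map_sum, LinearMap.rTensor_tmul]
  rfl

/-- An element of `A` with trivial coaction comes from the quotient. -/
theorem mem_range_of_rc_eq (φ : B →ₐc[k] A) (hφ : ∀ b, algebraMap B A b = φ b) (ψ : A →ₐc[k] A')
    (hψ : Function.Surjective ψ) (hker : RingHom.ker (ψ : A →ₐ[k] A') = kerIdeal k φ)
    [Module.FaithfullyFlat B A] {s : A} (hs : rc ψ s = s ⊗ₜ[k] (1 : A')) : s ∈ Set.range (algebraMap B A) := by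
  obtain ⟨g, hg⟩ := exists_gamma φ hφ ψ hψ hker
  let x' : A →ₐ[k] A ⊗[B] A := Algebra.TensorProduct.includeLeft
  let y' : A →ₐ[k] A ⊗[B] A := (Algebra.TensorProduct.includeRight (R := B) (A := A) (B := A)).restrictScalars k
  let h : A ⊗[k] A' →ₐ[k] A ⊗[B] A := Algebra.TensorProduct.lift x' g fun _ _ => .all _ _
  have h1 : toConv (h.comp (rc ψ)) = toConv x' * toConv (g.comp (ψ : A →ₐ[k] A')) := by
    apply ofConv_injective
    refine AlgHom.ext fun a => ?_
    rw [AlgHom.convMul_apply]
    show h (Algebra.TensorProduct.map (AlgHom.id k A) (ψ : A →ₐ[k] A') (Coalgebra.comul (R := k) a)) = _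
    induction Coalgebra.comul (R := k) a using TensorProduct.induction_on with
    | zero => simp
    | add p q hp hq => simp only [map_add, hp, hq]
    | tmul p q => simp [h, x']
  rw [hg, ← mul_assoc, mul_pinv, one_mul] at h1
  have h2 := DFunLike.congr_fun (congrArg WithConv.ofConv h1) s
  simp only [AlgHom.comp_apply, hs] at h2
  refine (Algebra.IsEffective.of_faithfullyFlat (R := B) (S := A) s).mp ?_
  rw [Algebra.TensorProduct.includeLeftSubRight_apply, sub_eq_zero]
  simpa [h, x', y'] using h2

/-- Invariant vectors: a surjection of `K`-comodules onto the trivial one has a fixed vector off the kernel,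
provided `G` has an invariant integral. -/
theorem exists_fixed (φ : B →ₐc[k] A) (hφ : ∀ b, algebraMap B A b = φ b) (ψ : A →ₐc[k] A')
    (hψ : Function.Surjective ψ) (hker : RingHom.ker (ψ : A →ₐ[k] A') = kerIdeal k φ)
    [Module.FaithfullyFlat B A] (J : A →ₗ[k] k) (hJ : GrothLib.Comodule.IsInvariant J) (hJ1 : J 1 = 1)
    {V : Type u} [AddCommGroup V] [Module k V] [HopfRep.Comod k A' V] [Module.Finite k V] (π : V →ₗ[k] k)
    (hπs : Function.Surjective π)
    (hπ : LinearMap.rTensor A' π ∘ₗ HopfRep.Comod.coact (k := k) (A := A') =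
      (TensorProduct.mk k k A').flip (1 : A') ∘ₗ π) :
    ∃ v ∈ HopfRep.fixedPts k A' V, π v ≠ 0 := by
  classical
  have hψφ : ∀ b, ψ (φ b) = algebraMap k A' (Coalgebra.counit b) := by
    intro b
    have hb : φ (b - algebraMap k B (Coalgebra.counit b)) ∈ RingHom.ker (ψ : A →ₐ[k] A') := by
      rw [hker]
      exact Ideal.mem_map_of_mem _ (by simp [RingHom.mem_ker])
    have := RingHom.mem_ker.mp hb
    rw [map_sub φ] at this
    rw [show φ (algebraMap k B (Coalgebra.counit b)) = algebraMap k A (Coalgebra.counit b) from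
      (φ : B →ₐ[k] A).commutes _] at this
    rw [map_sub, AlgHom.commutes, sub_eq_zero] at this
    exact this
  obtain ⟨g, hg⟩ := exists_gamma φ hφ ψ hψ hker
  obtain ⟨n, ⟨e⟩⟩ : ∃ n, Nonempty (Module.Basis (Fin n) k V) := ⟨_, ⟨Module.finBasis k V⟩⟩
  let C : Fin n → Fin n → A' := fun i j => GrothLib.Comodule.cfMap (C := A') (e.coord i) (e j)
  let p : Fin n → k := fun i => π (e i)
  have hrow : ∀ j, ∑ i, p i • C i j = p j • (1 : A') := by
    intro j
    have h1 := LinearMap.congr_fun hπ (e j)
    simp only [LinearMap.comp_apply, LinearMap.flip_apply, TensorProduct.mk_apply] at h1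
    have h2 := congrArg (TensorProduct.lid k A') h1
    rw [TensorProduct.lid_tmul] at h2
    refine Eq.trans ?_ h2
    have hπe : π = ∑ i, p i • e.coord i := e.ext fun l => by
      simp [p, Finsupp.single_apply]
    conv_rhs => rw [hπe]
    simp only [C, GrothLib.Comodule.cfMap_apply]
    induction HopfRep.Comod.coact (k := k) (A := A') (e j) using TensorProduct.induction_on with
    | zero => simp
    | add x y hx hy => simp only [map_add, smul_add, Finset.sum_add_distrib, hx, hy]
    | tmul x y => simp [Finset.sum_smul, smul_smul]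
  have hε : ∀ i j, Coalgebra.counit (R := k) (C i j) = if j = i then 1 else 0 := fun i j => by
    show Coalgebra.counit (R := k) (GrothLib.Comodule.cfMap (C := A') (e.coord i) (e j)) = _
    rw [GrothLib.Comodule.counit_cfMap]
    simp [Finsupp.single_apply]
  let ρB : A →ₐ[B] A ⊗[k] A' := rcB φ hφ ψ hψφ
  let ιB : A →ₐ[B] A ⊗[k] A' :=
    (Algebra.TensorProduct.includeLeft : A →ₐ[B] A ⊗[k] A')
  let F : Fin n → Fin n → (A →ₗ[B] A ⊗[k] A') := fun i l =>
    LinearMap.mulLeft B ((1 : A) ⊗ₜ[k] C i l) ∘ₗ ρB.toLinearMap - if l = i then ιB.toLinearMap else 0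
  let D : (Fin n → A) →ₗ[B] (Fin n → A ⊗[k] A') :=
    LinearMap.pi fun i => ∑ l, F i l ∘ₗ LinearMap.proj l
  let T : Fin n → (Fin n → A) ⊗[B] A := fun j => ∑ l, (LinearMap.single B (fun _ => A) l).rTensor A (g (C l j))
  have hT : ∀ j, D.rTensor A (T j) = 0 := by
    intro j
    apply (TensorProduct.piLeft B A (fun _ : Fin n => A ⊗[k] A')).injective
    funext i
    have hproj : ∀ z : (Fin n → A ⊗[k] A') ⊗[B] A,
        TensorProduct.piLeft B A (fun _ : Fin n => A ⊗[k] A') z i = (LinearMap.proj i).rTensor A z := by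
      intro z
      induction z using TensorProduct.induction_on with
      | zero => simp
      | add x y hx hy => simp only [map_add, Pi.add_apply, hx, hy]
      | tmul x y => simp
    rw [hproj, map_zero, Pi.zero_apply, map_sum, map_sum]
    have hF : ∀ l, LinearMap.proj i ∘ₗ D ∘ₗ LinearMap.single B (fun _ => A) l = F i l := fun l => by
      refine LinearMap.ext fun a => ?_
      simp only [D, LinearMap.comp_apply, LinearMap.proj_apply, LinearMap.pi_apply, LinearMap.coe_sum, Finset.sum_apply,
        LinearMap.single_apply]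
      rw [Finset.sum_eq_single l (fun m _ hm => by rw [Pi.single_eq_of_ne hm, map_zero])
        (fun h => absurd (Finset.mem_univ l) h), Pi.single_eq_same]
    simp only [← LinearMap.comp_apply, ← LinearMap.rTensor_comp, hF]
    let Q := Algebra.TensorProduct.map ιB (AlgHom.id B A)
    let P := Algebra.TensorProduct.map ρB (AlgHom.id B A)
    let j2 : A' →ₐ[k] (A ⊗[k] A') ⊗[B] A :=
      (Algebra.TensorProduct.includeLeft : A ⊗[k] A' →ₐ[k] (A ⊗[k] A') ⊗[B] A).comp Algebra.TensorProduct.includeRight
    have hFapp : ∀ l z, (F i l).rTensor A z = j2 (C i l) * P z - if l = i then Q z else 0 := by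
      intro l z
      simp only [F, LinearMap.rTensor_sub, LinearMap.sub_apply]
      congr 1
      · induction z using TensorProduct.induction_on with
        | zero => simp
        | add x y hx hy => simp only [map_add, mul_add, hx, hy]
        | tmul x y => simp [P, j2]
      · split_ifs
        · induction z using TensorProduct.induction_on with
          | zero => simp
          | add x y hx hy => simp only [map_add, hx, hy]
          | tmul x y => simp [Q]
        · simp
    simp only [hFapp, Finset.sum_sub_distrib, Finset.sum_ite_eq', Finset.mem_univ, if_true, sub_eq_zero]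
    have hP : ∀ l, P (g (C l j)) = ∑ m, j2 (HopfAlgebraStruct.antipode k (C l m)) * Q (g (C m j)) := by
      intro l
      have h1 := DFunLike.congr_fun (congrArg WithConv.ofConv (rc_gamma φ hφ ψ hψ hψφ hg)) (C l j)
      refine h1.trans ?_
      rw [AlgHom.convMul_apply, show Coalgebra.comul (R := k) (C l j) = _ from cfMap_comul e l j, map_sum]
      refine Finset.sum_congr rfl fun m _ => ?_
      simp [pinv, C, Q, ιB, j2]
    simp only [hP, Finset.mul_sum, ← mul_assoc, ← map_mul]
    rw [Finset.sum_comm]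
    simp only [← Finset.sum_mul, ← map_sum]
    have hinv : ∀ m, ∑ l, C i l * HopfAlgebraStruct.antipode k (C l m) = if m = i then 1 else 0 := by
      intro m
      have h1 := HopfAlgebra.mul_antipode_lTensor_comul_apply (R := k) (C i m)
      rw [show Coalgebra.comul (R := k) (C i m) = _ from cfMap_comul e i m, map_sum, map_sum, hε] at h1
      simp only [LinearMap.lTensor_tmul, LinearMap.mul'_apply] at h1
      refine h1.trans ?_
      split_ifs <;> simp
    simp only [hinv, apply_ite j2, map_one, map_zero, ite_mul, one_mul, zero_mul, Finset.sum_ite_eq', Finset.mem_univ,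
      if_true]
  let N := LinearMap.ker D
  have hN : ∀ j, T j ∈ LinearMap.range (N.subtype.rTensor A) := fun j =>
    (Module.Flat.rTensor_exact A (LinearMap.exact_subtype_ker_map D) (T j)).mp (hT j)
  let m : (Fin n → A) ⊗[B] A →ₗ[B] (Fin n → A) :=
    TensorProduct.lift (LinearMap.mk₂ B (fun (x : Fin n → A) (a : A) => fun i => a * x i)
      (fun x y a => funext fun i => mul_add _ _ _) (fun c x a => funext fun i => mul_smul_comm _ _ _)
      (fun x a b => funext fun i => add_mul _ _ _) (fun c x a => funext fun i => smul_mul_assoc _ _ _))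
  have hm : ∀ z ∈ LinearMap.range (N.subtype.rTensor A), m z ∈ Submodule.span A (N : Set (Fin n → A)) := by
    rintro _ ⟨z, rfl⟩
    induction z using TensorProduct.induction_on with
    | zero => simp
    | add x y hx hy => rw [map_add, map_add]; exact add_mem hx hy
    | tmul x a => exact Submodule.smul_mem _ a (Submodule.subset_span x.2)
  have hmT : ∀ j, m (T j) = Pi.single j 1 := by
    intro j
    have h1 : ∀ l z, m ((LinearMap.single B (fun _ => A) l).rTensor A z) =
        Pi.single l (Algebra.TensorProduct.lmul' B z) := by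
      intro l z
      induction z using TensorProduct.induction_on with
      | zero => simp
      | add x y hx hy => simp only [map_add, Pi.single_add, hx, hy]
      | tmul x y =>
        funext i
        by_cases h : i = l
        · subst h; simp [m, mul_comm]
        · simp [m, h]
    simp only [T, map_sum, h1, mul_gamma ψ hψ hg, hε]
    rw [Finset.sum_eq_single j (fun l _ hl => by simp [Ne.symm hl]) (fun h => absurd (Finset.mem_univ j) h)]
    simp
  have htop : Submodule.span A (N : Set (Fin n → A)) = ⊤ := by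
    rw [eq_top_iff, ← (Pi.basisFun A (Fin n)).span_eq, Submodule.span_le]
    rintro _ ⟨j, rfl⟩
    rw [Pi.basisFun_apply, ← hmT j]
    exact hm _ (hN j)
  let S : (Fin n → A) →ₗ[A] A := ∑ i, algebraMap k A (p i) • LinearMap.proj i
  have hS : ∀ x, S x = ∑ i, algebraMap k A (p i) * x i := fun x => by simp [S, Algebra.smul_def]
  have hD : ∀ x ∈ N, ∀ i, ∑ l, ((1 : A) ⊗ₜ[k] C i l) * rc ψ (x l) = x i ⊗ₜ[k] (1 : A') := by
    intro x hx i
    have h1 := congrFun (LinearMap.mem_ker.mp hx) i
    simp only [D, F, LinearMap.pi_apply, LinearMap.coe_sum, Finset.sum_apply, LinearMap.comp_apply, LinearMap.proj_apply,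
      LinearMap.sub_apply, Pi.zero_apply, Finset.sum_sub_distrib, LinearMap.mulLeft_apply, AlgHom.toLinearMap_apply] at h1
    rw [sub_eq_zero] at h1
    refine h1.trans ?_
    rw [Finset.sum_eq_single i (fun l _ hl => by simp [hl]) (fun h => absurd (Finset.mem_univ i) h)]
    simp [ιB]
  have hSinv : ∀ x ∈ N, rc ψ (S x) = S x ⊗ₜ[k] (1 : A') := by
    intro x hx
    calc rc ψ (S x) = ∑ l, p l • rc ψ (x l) := by simp [hS, ← Algebra.smul_def, map_sum]
      _ = ∑ l, ((1 : A) ⊗ₜ[k] ∑ i, p i • C i l) * rc ψ (x l) := Finset.sum_congr rfl fun l _ => by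
          rw [hrow, TensorProduct.tmul_smul, ← Algebra.TensorProduct.one_def, smul_mul_assoc, one_mul]
      _ = ∑ i, p i • ∑ l, ((1 : A) ⊗ₜ[k] C i l) * rc ψ (x l) := by
          simp only [TensorProduct.tmul_sum, TensorProduct.tmul_smul, Finset.sum_mul, Finset.smul_sum, smul_mul_assoc]
          exact Finset.sum_comm
      _ = ∑ i, p i • (x i ⊗ₜ[k] (1 : A')) := Finset.sum_congr rfl fun i _ => by rw [hD x hx i]
      _ = S x ⊗ₜ[k] (1 : A') := by
          rw [hS, TensorProduct.sum_tmul]
          simp [← Algebra.smul_def, TensorProduct.smul_tmul']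
  let P : Ideal B := (N.map (S.restrictScalars B)).comap (Algebra.linearMap B A)
  have hP : P = ⊤ := by
    suffices hmap : Ideal.map (algebraMap B A) P = ⊤ by
      rw [← Ideal.comap_map_eq_self_of_faithfullyFlat (B := A) P, hmap, Ideal.comap_top]
    have h1 : (1 : A) ∈ Submodule.map S (Submodule.span A (N : Set (Fin n → A))) := by
      rw [htop]
      obtain ⟨v, hv⟩ := hπs 1
      refine ⟨fun i => algebraMap k A (e.repr v i), trivial, ?_⟩
      rw [hS]
      simp only [← map_mul, ← map_sum]
      rw [show ∑ i, p i * e.repr v i = π v by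
        conv_rhs => rw [← e.sum_repr v, map_sum]
        simp [p, mul_comm], hv, map_one]
    rw [Submodule.map_span] at h1
    rw [Ideal.eq_top_iff_one]
    refine (Submodule.span_le (p := Ideal.map (algebraMap B A) P)).mpr ?_ h1
    rintro _ ⟨x, hx, rfl⟩
    obtain ⟨b, hb⟩ := mem_range_of_rc_eq φ hφ ψ hψ hker (hSinv x hx)
    rw [← hb]
    exact Ideal.mem_map_of_mem _ (show b ∈ P from ⟨x, hx, hb.symm⟩)
  obtain ⟨x, hx, hx1⟩ : (1 : A) ∈ N.map (S.restrictScalars B) := by
    have : (1 : B) ∈ P := hP ▸ Submodule.mem_top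
    simpa [P] using this
  refine ⟨∑ l, J (x l) • e l, ?_, ?_⟩
  · show HopfRep.Comod.coact (k := k) (A := A') _ = _
    let L : A ⊗[k] A' →ₗ[k] A' := (TensorProduct.lid k A').toLinearMap ∘ₗ J.rTensor A'
    have hL1 : ∀ (c : A') (z : A ⊗[k] A'), L (((1 : A) ⊗ₜ[k] c) * z) = c * L z := by
      intro c z
      induction z using TensorProduct.induction_on with
      | zero => simp
      | add s t hs ht => simp only [mul_add, map_add, hs, ht]
      | tmul s t => simp [L]
    have hL2 : ∀ a : A, L (rc ψ a) = J a • (1 : A') := by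
      intro a
      have h1 := congrArg ψ (hJ a)
      rw [map_smul, map_one] at h1
      refine Eq.trans ?_ h1
      show L (Algebra.TensorProduct.map (AlgHom.id k A) (ψ : A →ₐ[k] A') (Coalgebra.comul (R := k) a)) = _
      induction Coalgebra.comul (R := k) a using TensorProduct.induction_on with
      | zero => simp
      | add s t hs ht => simp only [map_add, hs, ht]
      | tmul s t => simp [L]
    have hcol : ∀ i, ∑ l, J (x l) • C i l = J (x i) • (1 : A') := by
      intro i
      have h1 := congrArg L (hD x hx i)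
      simp only [map_sum, hL1, hL2, mul_smul_comm, mul_one] at h1
      refine h1.trans ?_
      simp [L]
    have hexp : ∀ l, HopfRep.Comod.coact (k := k) (A := A') (e l) = ∑ i, e i ⊗ₜ[k] C i l := by
      intro l
      simp only [C, GrothLib.Comodule.cfMap_apply]
      induction HopfRep.Comod.coact (k := k) (A := A') (e l) using TensorProduct.induction_on with
      | zero => simp
      | add s t hs ht => simp only [map_add, TensorProduct.tmul_add, Finset.sum_add_distrib, ← hs, ← ht]
      | tmul s t =>
        simp only [LinearMap.rTensor_tmul, TensorProduct.lid_tmul, TensorProduct.tmul_smul, TensorProduct.smul_tmul',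
          ← TensorProduct.sum_tmul, Module.Basis.coord_apply, e.sum_repr]
    simp only [map_sum, map_smul, hexp, Finset.smul_sum, ← TensorProduct.tmul_smul]
    rw [Finset.sum_comm, TensorProduct.sum_tmul]
    refine Finset.sum_congr rfl fun i _ => ?_
    rw [← TensorProduct.tmul_sum, hcol, TensorProduct.smul_tmul]
  · have h1 : J (S x) = ∑ l, p l * J (x l) := by
      rw [hS, map_sum]
      exact Finset.sum_congr rfl fun l _ => by rw [← Algebra.smul_def, map_smul, smul_eq_mul]
    rw [show S x = 1 from hx1, hJ1] at h1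
    rw [map_sum]
    simp only [map_smul, smul_eq_mul]
    rw [Finset.sum_congr rfl fun l _ => mul_comm (J (x l)) (π (e l)), ← h1]
    exact one_ne_zero

end GrothLib.LinRedExt
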